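import Mathlib.Algebra.Homology.DerivedCategory.TStructure
import Mathlib.Algebra.Homology.DerivedCategory.HomologySequence
import Mathlib.Algebra.Homology.DerivedCategory.FullyFaithful
import Mathlib.CategoryTheory.Triangulated.TStructure.TruncLTGE

/-! Truncations of the canonical t-structure and homology. -/

set_option autoImplicit false
universe w v u

namespace Groth.Agent.DC43

open CategoryTheory CategoryTheory.Limits CategoryTheory.Pretriangulated DerivedCategory

variable {C : Type u} [Category.{v} C] [Abelian C] [HasDerivedCategory.{w} C]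

/-- The canonical t-structure. -/
local notation "τ" => (DerivedCategory.TStructure.t (C := C))

theorem isIso_homology_truncLTι (X : DerivedCategory C) (n i : ℤ) (hi : i < n) :
    IsIso ((homologyFunctor C i).map (((τ).truncLTι n).app X)) := by
  have hT := (τ).triangleLTGE_distinguished n X
  have hge : DerivedCategory.IsGE (((τ).truncGE n).obj X) n :=
    (inferInstance : (τ).IsGE (((τ).truncGE n).obj X) n)
  have h1 := DerivedCategory.isZero_of_isGE (((τ).truncGE n).obj X) n (i - 1) (by lia)
  have h2 := DerivedCategory.isZero_of_isGE (((τ).truncGE n).obj X) n i hi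
  have : Mono ((homologyFunctor C i).map (((τ).truncLTι n).app X)) :=
    (HomologySequence.mono_homologyMap_mor₁_iff _ hT (i - 1) i (by lia)).2 (h1.eq_of_src _ _)
  have : Epi ((homologyFunctor C i).map (((τ).truncLTι n).app X)) :=
    (HomologySequence.epi_homologyMap_mor₁_iff _ hT i).2 (h2.eq_of_tgt _ _)
  exact isIso_of_mono_of_epi _

theorem isIso_homology_truncGEπ (X : DerivedCategory C) (n i : ℤ) (hi : n ≤ i) :
    IsIso ((homologyFunctor C i).map (((τ).truncGEπ n).app X)) := by
  have hT := (τ).triangleLTGE_distinguished n X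
  have hle : DerivedCategory.IsLE (((τ).truncLT n).obj X) (n - 1) :=
    (inferInstance : (τ).IsLE (((τ).truncLT n).obj X) (n - 1))
  have h1 := DerivedCategory.isZero_of_isLE (((τ).truncLT n).obj X) (n - 1) i (by lia)
  have h2 := DerivedCategory.isZero_of_isLE (((τ).truncLT n).obj X) (n - 1) (i + 1) (by lia)
  have : Mono ((homologyFunctor C i).map (((τ).truncGEπ n).app X)) :=
    (HomologySequence.mono_homologyMap_mor₂_iff _ hT i).2 (h1.eq_of_src _ _)
  have : Epi ((homologyFunctor C i).map (((τ).truncGEπ n).app X)) :=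
    (HomologySequence.epi_homologyMap_mor₂_iff _ hT i (i + 1) rfl).2 (h2.eq_of_tgt _ _)
  exact isIso_of_mono_of_epi _

/-- A morphism between objects concentrated in one degree vanishes if its homology does. -/
theorem eq_zero_of_homology_eq_zero {X Y : DerivedCategory C} (f : X ⟶ Y) (n : ℤ)
    (hX₁ : X.IsGE n) (hX₂ : X.IsLE n) (hY₁ : Y.IsGE n) (hY₂ : Y.IsLE n)
    (h : (homologyFunctor C n).map f = 0) : f = 0 := by
  obtain ⟨A, ⟨eA⟩⟩ := exists_iso_singleFunctor_obj_of_isGE_of_isLE X n
  obtain ⟨B, ⟨eB⟩⟩ := exists_iso_singleFunctor_obj_of_isGE_of_isLE Y n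
  obtain ⟨g, hg⟩ := (singleFunctor C n).map_surjective (eA.inv ≫ f ≫ eB.hom)
  have h0 : (singleFunctor C n ⋙ homologyFunctor C n).map g = 0 := by
    rw [Functor.comp_map, hg, Functor.map_comp, Functor.map_comp, h]; simp
  have : g = 0 := by
    rw [← Functor.id_map g, ← NatIso.naturality_1 (singleFunctorCompHomologyFunctorIso C n) g, h0]
    simp
  rw [this, Functor.map_zero] at hg
  rw [← cancel_epi eA.inv, ← cancel_mono eB.hom, Category.assoc, ← hg]
  simp

/-- The `n + 1`-st power of an endomorphism killed by homology vanishes on amplitude `n + 1`. -/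
theorem end_pow_eq_zero (n : ℕ) (X : DerivedCategory C) (a : ℤ) (hge : X.IsGE a)
    (hle : X.IsLE (a + n)) (f : CategoryTheory.End X)
    (hf : ∀ i : ℤ, (homologyFunctor C i).map f = 0) : f ^ (n + 1) = 0 := by
  induction n generalizing X with
  | zero =>
    rw [pow_one]
    exact eq_zero_of_homology_eq_zero f a hge (by simpa using hle) hge (by simpa using hle) (hf a)
  | succ n ih =>
    let b : ℤ := a + (n + 1 : ℕ)
    have hT := (τ).triangleLTGE_distinguished b X
    let ι := ((τ).truncLTι b).app X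
    let p := ((τ).truncGEπ b).app X
    have : (τ).IsGE X a := hge
    have : (τ).IsLE X b := hle
    have hltle : DerivedCategory.IsLE (((τ).truncLT b).obj X) (a + n) :=
      (τ).isLE_truncLT_obj _ _ _ (by grind)
    have hltge : DerivedCategory.IsGE (((τ).truncLT b).obj X) a :=
      (inferInstance : (τ).IsGE (((τ).truncLT b).obj X) a)
    have hgege : DerivedCategory.IsGE (((τ).truncGE b).obj X) b :=
      (inferInstance : (τ).IsGE (((τ).truncGE b).obj X) b)
    have hgele : DerivedCategory.IsLE (((τ).truncGE b).obj X) b :=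
      (inferInstance : (τ).IsLE (((τ).truncGE b).obj X) b)
    let f₁ : CategoryTheory.End (((τ).truncLT b).obj X) := ((τ).truncLT b).map f
    have hnat₁ : f₁ ≫ ι = ι ≫ f := ((τ).truncLTι b).naturality f
    have hf₁ : ∀ i : ℤ, (homologyFunctor C i).map f₁ = 0 := by
      intro i
      by_cases hi : i < b
      · have := isIso_homology_truncLTι X b i hi
        rw [← cancel_mono ((homologyFunctor C i).map ι), zero_comp, ← Functor.map_comp, hnat₁,
          Functor.map_comp, hf, comp_zero]
      · exact (DerivedCategory.isZero_of_isLE (((τ).truncLT b).obj X) (a + n) i (by grind)).eq_of_src _ _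
    have hpow : ∀ k : ℕ, (f₁ ^ k : CategoryTheory.End (((τ).truncLT b).obj X)) ≫ ι =
        ι ≫ (f ^ k : CategoryTheory.End X) := by
      intro k
      induction k with
      | zero => rw [pow_zero, pow_zero]; exact (Category.id_comp _).trans (Category.comp_id _).symm
      | succ k hk =>
        rw [pow_succ, pow_succ]
        change (f₁ ≫ (f₁ ^ k : CategoryTheory.End _)) ≫ ι = ι ≫ f ≫ (f ^ k : CategoryTheory.End X)
        rw [Category.assoc, hk, ← Category.assoc, hnat₁, Category.assoc]
    have h0 : ι ≫ (f ^ (n + 1) : CategoryTheory.End X) = 0 := by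
      rw [← hpow, ih _ hltge hltle f₁ hf₁]
      exact zero_comp
    obtain ⟨h, hh⟩ := Triangle.yoneda_exact₂ _ hT _ h0
    have h2 : ((τ).truncGE b).map f = 0 := by
      refine eq_zero_of_homology_eq_zero _ b hgege hgele hgege hgele ?_
      have := isIso_homology_truncGEπ X b b le_rfl
      rw [← cancel_epi ((homologyFunctor C b).map p), comp_zero, ← Functor.map_comp,
        show p ≫ ((τ).truncGE b).map f = f ≫ p from (((τ).truncGEπ b).naturality f).symm,
        Functor.map_comp, hf, zero_comp]
    have hfp : f ≫ p = 0 := by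
      rw [show f ≫ p = p ≫ ((τ).truncGE b).map f from ((τ).truncGEπ b).naturality f, h2, comp_zero]
    rw [pow_succ]
    change f ≫ (f ^ (n + 1) : CategoryTheory.End X) = 0
    rw [hh]
    exact (Category.assoc _ _ _).symm.trans ((congrArg (· ≫ h) hfp).trans zero_comp)

/-- A map killed by `H^{q-1}` and `H^q` between two-degree truncations factors through one degree. -/
theorem existsUnique_truncMap {K K' : DerivedCategory C} (f : K ⟶ K') (q : ℤ)
    (h₁ : (homologyFunctor C (q - 1)).map f = 0) (h₂ : (homologyFunctor C q).map f = 0) :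
    ∃! L : ((τ).truncGELT q (q + 1)).obj K ⟶ ((τ).truncGELT (q - 1) q).obj K',
      ((τ).truncGELT (q - 1) (q + 1)).map f =
        ((τ).natTransTruncGEOfLE (q - 1) q (sub_one_lt q).le).app (((τ).truncLT (q + 1)).obj K) ≫ L ≫
          ((τ).truncGE (q - 1)).map
            (((τ).natTransTruncLTOfLE q (q + 1) (lt_add_one q).le).app K') := by
  let F : DerivedCategory C ⥤ DerivedCategory C := (τ).truncGELT (q - 1) (q + 1)
  let nat := fun X : DerivedCategory C =>
    ((τ).natTransTruncGEOfLE (q - 1) q (sub_one_lt q).le).app (((τ).truncLT (q + 1)).obj X)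
  let inc := fun X : DerivedCategory C =>
    ((τ).truncGE (q - 1)).map (((τ).natTransTruncLTOfLE q (q + 1) (lt_add_one q).le).app X)
  let ι := fun X : DerivedCategory C => ((τ).truncLTι q).app (F.obj X)
  let p := fun X : DerivedCategory C => ((τ).truncGEπ q).app (F.obj X)
  have hFge : ∀ X, (τ).IsGE (F.obj X) (q - 1) := fun X =>
    inferInstanceAs ((τ).IsGE (((τ).truncGE (q - 1)).obj (((τ).truncLT (q + 1)).obj X)) (q - 1))
  have hFle : ∀ X, (τ).IsLE (F.obj X) q := fun X =>
    inferInstanceAs ((τ).IsLE (((τ).truncGE (q - 1)).obj (((τ).truncLT (q + 1)).obj X)) q)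
  have hA1 : ∀ X, (τ).IsGE (((τ).truncLT q).obj (F.obj X)) (q - 1) := fun X =>
    have := hFge X
    inferInstance
  have hA2 : ∀ X, (τ).IsLE (((τ).truncGE q).obj (F.obj X)) q := fun X =>
    have := hFle X
    inferInstance
  have hu : ∀ X, IsIso (((τ).truncGE q).map (((τ).truncGEπ (q - 1)).app (((τ).truncLT (q + 1)).obj X))) :=
    fun X => (τ).isIso_truncGE_map_truncGEπ_app q (q - 1) (by lia) _
  have hnat : ∀ X, p X = nat X ≫
      ((τ).truncGE q).map (((τ).truncGEπ (q - 1)).app (((τ).truncLT (q + 1)).obj X)) := by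
    intro X
    refine (τ).from_truncGE_obj_ext ?_
    have h := ((τ).truncGEπ q).naturality (((τ).truncGEπ (q - 1)).app (((τ).truncLT (q + 1)).obj X))
    exact h.trans (by rw [← Category.assoc, (τ).π_natTransTruncGEOfLE_app]; rfl)
  have hK'1 : (τ).IsLE (((τ).truncGE (q - 1)).obj (((τ).truncLT q).obj K')) (q - 1) := inferInstance
  let l : ((τ).truncGELT (q - 1) q).obj K' ⟶ ((τ).truncLT q).obj (F.obj K') :=
    (τ).liftTruncLT (inc K') (q - 1) q (by lia)
  have hl : l ≫ ι K' = inc K' := (τ).liftTruncLT_ι _ _ _ _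
  have hliso : IsIso l := by
    let n := ((τ).natTransTruncLTOfLE q (q + 1) (lt_add_one q).le).app K'
    have h1 : IsIso (((τ).truncLT q).map n) := by
      have h := congrArg ((τ).truncLT q).map
        ((τ).natTransTruncLTOfLE_ι_app q (q + 1) (lt_add_one q).le K')
      rw [Functor.map_comp] at h
      have := (τ).isIso_truncLT_map_truncLTι_app q (q + 1) (by lia) K'
      have : IsIso (((τ).truncLT q).map n ≫ ((τ).truncLT q).map (((τ).truncLTι (q + 1)).app K')) := by
        rw [h]; exact (τ).isIso_truncLT_map_truncLTι_app q q le_rfl K'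
      exact IsIso.of_isIso_comp_right _ (((τ).truncLT q).map (((τ).truncLTι (q + 1)).app K'))
    have h2 : IsIso (((τ).truncLT q).map (inc K')) :=
      (NatIso.isIso_map_iff ((τ).truncGELTIsoLTGE (q - 1) q) n).1
        (inferInstanceAs (IsIso (((τ).truncGE (q - 1)).map (((τ).truncLT q).map n))))
    have h3 : IsIso (((τ).truncLTι q).app (((τ).truncGELT (q - 1) q).obj K')) :=
      ((τ).isLE_iff_isIso_truncLTι_app (q - 1) q (by lia) _).1 hK'1
    have h4 : ((τ).truncLT q).map (inc K') ≫ ι K' =
        ((τ).truncLTι q).app (((τ).truncGELT (q - 1) q).obj K') ≫ inc K' :=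
      ((τ).truncLTι q).naturality (inc K')
    have : l = inv (((τ).truncLTι q).app (((τ).truncGELT (q - 1) q).obj K')) ≫
        ((τ).truncLT q).map (inc K') := by
      have : (τ).IsLE (((τ).truncGELT (q - 1) q).obj K') (q - 1) := hK'1
      refine (τ).to_truncLT_obj_ext ?_
      rw [Category.assoc, h4, IsIso.inv_hom_id_assoc]
      exact hl
    rw [this]; infer_instance
  have hH : ∀ i : ℤ, q - 1 ≤ i → i < q + 1 → (homologyFunctor C i).map f = 0 →
      (homologyFunctor C i).map (F.map f) = 0 := by
    intro i hi₁ hi₂ h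
    have h4 : (homologyFunctor C i).map (((τ).truncLT (q + 1)).map f) = 0 := by
      have := isIso_homology_truncLTι K' (q + 1) i hi₂
      have e : ((τ).truncLT (q + 1)).map f ≫ ((τ).truncLTι (q + 1)).app K' =
          ((τ).truncLTι (q + 1)).app K ≫ f := ((τ).truncLTι (q + 1)).naturality f
      rw [← cancel_mono ((homologyFunctor C i).map (((τ).truncLTι (q + 1)).app K')), zero_comp,
        ← Functor.map_comp, e, Functor.map_comp, h, comp_zero]
    have := isIso_homology_truncGEπ (((τ).truncLT (q + 1)).obj K) (q - 1) i hi₁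
    have e : ((τ).truncGEπ (q - 1)).app (((τ).truncLT (q + 1)).obj K) ≫ F.map f =
        ((τ).truncLT (q + 1)).map f ≫ ((τ).truncGEπ (q - 1)).app (((τ).truncLT (q + 1)).obj K') :=
      (((τ).truncGEπ (q - 1)).naturality (((τ).truncLT (q + 1)).map f)).symm
    rw [← cancel_epi ((homologyFunctor C i).map (((τ).truncGEπ (q - 1)).app
      (((τ).truncLT (q + 1)).obj K))), comp_zero, ← Functor.map_comp, e, Functor.map_comp, h4,
      zero_comp]
  have hιF : ι K ≫ F.map f = 0 := by
    rw [show ι K ≫ F.map f = ((τ).truncLT q).map (F.map f) ≫ ι K' from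
      (((τ).truncLTι q).naturality (F.map f)).symm]
    have : ((τ).truncLT q).map (F.map f) = 0 := by
      refine eq_zero_of_homology_eq_zero _ (q - 1) (hA1 K) inferInstance (hA1 K') inferInstance ?_
      have := isIso_homology_truncLTι (F.obj K') q (q - 1) (by lia)
      rw [← cancel_mono ((homologyFunctor C (q - 1)).map (ι K')), zero_comp, ← Functor.map_comp,
        show ((τ).truncLT q).map (F.map f) ≫ ι K' = ι K ≫ F.map f from
          ((τ).truncLTι q).naturality (F.map f), Functor.map_comp,
        hH (q - 1) le_rfl (by lia) h₁, comp_zero]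
    rw [this, zero_comp]
  obtain ⟨G, hG⟩ := Triangle.yoneda_exact₂ _ ((τ).triangleLTGE_distinguished q (F.obj K)) _ hιF
  change ((τ).truncGE q).obj (F.obj K) ⟶ F.obj K' at G
  replace hG : F.map f = p K ≫ G := hG
  have hGp : G ≫ p K' = 0 := by
    refine eq_zero_of_homology_eq_zero _ q inferInstance (hA2 K) inferInstance (hA2 K') ?_
    have := isIso_homology_truncGEπ (F.obj K) q q le_rfl
    rw [← cancel_epi ((homologyFunctor C q).map (p K)), comp_zero, ← Functor.map_comp,
      ← Category.assoc, ← hG, Functor.map_comp, hH q (by lia) (by lia) h₂, zero_comp]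
  obtain ⟨L₀, hL₀⟩ := Triangle.coyoneda_exact₂ _ ((τ).triangleLTGE_distinguished q (F.obj K')) G hGp
  change ((τ).truncGE q).obj (F.obj K) ⟶ ((τ).truncLT q).obj (F.obj K') at L₀
  replace hL₀ : G = L₀ ≫ ι K' := hL₀
  let u : ((τ).truncGE q).obj (((τ).truncLT (q + 1)).obj K) ⟶ ((τ).truncGE q).obj (F.obj K) :=
    ((τ).truncGE q).map (((τ).truncGEπ (q - 1)).app (((τ).truncLT (q + 1)).obj K))
  have : IsIso u := hu K
  have := hliso
  refine ⟨u ≫ L₀ ≫ inv l, ?_, ?_⟩
  · change F.map f = nat K ≫ (u ≫ L₀ ≫ inv l) ≫ inc K'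
    rw [hG, hL₀, hnat, ← hl]
    simp [u]
  · intro L hL
    change F.map f = nat K ≫ L ≫ inc K' at hL
    have h0 : p K ≫ (inv u ≫ L ≫ l - L₀) ≫ ι K' = 0 := by
      rw [Preadditive.sub_comp, Preadditive.comp_sub, ← hL₀, ← hG, Category.assoc, Category.assoc,
        hl, hnat, Category.assoc]
      simp only [u, IsIso.hom_inv_id_assoc]
      rw [← hL, sub_self]
    obtain ⟨d, hd⟩ := Triangle.yoneda_exact₃ _ ((τ).triangleLTGE_distinguished q (F.obj K)) _ h0
    change (((τ).truncLT q).obj (F.obj K))⟦(1 : ℤ)⟧ ⟶ F.obj K' at d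
    have : (τ).IsLE ((((τ).truncLT q).obj (F.obj K))⟦(1 : ℤ)⟧) (q - 2) :=
      (τ).isLE_shift _ (q - 1) 1 (q - 2) (by lia)
    have := hFge K'
    replace hd : (inv u ≫ L ≫ l - L₀) ≫ ι K' = 0 := by
      refine hd.trans ?_
      rw [(τ).zero d (q - 2) (q - 1) (by lia)]
      exact comp_zero
    obtain ⟨e, he⟩ := Triangle.coyoneda_exact₂ _
      (inv_rot_of_distTriang _ ((τ).triangleLTGE_distinguished q (F.obj K'))) _ hd
    change ((τ).truncGE q).obj (F.obj K) ⟶ (((τ).truncGE q).obj (F.obj K'))⟦(-1 : ℤ)⟧ at e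
    have : (τ).IsGE ((((τ).truncGE q).obj (F.obj K'))⟦(-1 : ℤ)⟧) (q + 1) :=
      (τ).isGE_shift _ q (-1) (q + 1) (by lia)
    have := hA2 K
    rw [(τ).zero e q (q + 1) (by lia)] at he
    have h5 : inv u ≫ L ≫ l = L₀ := sub_eq_zero.1 (he.trans zero_comp)
    rw [← h5]
    simp

/-- There is a map from an object onto the top cohomology killed by `f`; the object can be chosen
with any property `R` for which there are enough objects covering a given one. -/
theorem exists_cover_map (R : C → C → Prop)
    (hR : ∀ (L H N : C) (π : L ⟶ H), Epi π → R L N → R H N)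
    (hchoose : ∀ L : C, ∃ (N : C) (p : N ⟶ L), Epi p ∧ R L N)
    (X X' : DerivedCategory C) (f : X ⟶ X') (b : ℤ) (hX : X.IsLE b) (hX' : X'.IsLE (b - 1)) :
    ∃ (N : C) (g : (singleFunctor C b).obj N ⟶ X), Epi ((homologyFunctor C b).map g) ∧
      R ((homologyFunctor C b).obj X) N ∧ g ≫ f = 0 := by
  obtain ⟨Y, i, d, hT⟩ := distinguished_cocone_triangle₁ f
  have hY : Y.IsLE b := by
    have : (τ).IsLE (X'⟦(-1 : ℤ)⟧) b := (τ).isLE_shift X' (b - 1) (-1) b (by lia)
    exact (τ).isLE₂ _ (inv_rot_of_distTriang _ hT) b this hX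
  have hepi : Epi ((homologyFunctor C b).map i) :=
    (HomologySequence.epi_homologyMap_mor₁_iff _ hT b).2
      ((X'.isZero_of_isLE (b - 1) b (by lia)).eq_of_tgt _ _)
  obtain ⟨L, hL, ⟨e⟩⟩ := Y.exists_iso_Q_obj_of_isLE b
  have hd : L.d b (b + 1) = 0 := (L.isZero_of_isStrictlyLE b (b + 1) (by lia)).eq_of_tgt _ _
  have := L.isIso_iCycles b (b + 1) (by simp) hd
  let π : L.X b ⟶ (homologyFunctor C b).obj X :=
    inv (L.iCycles b) ≫ L.homologyπ b ≫ (homologyFunctorFactors C b).inv.app L ≫
      (homologyFunctor C b).map e.inv ≫ (homologyFunctor C b).map i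
  obtain ⟨N, p, hp, hzero⟩ := hchoose (L.X b)
  let s : (HomologicalComplex.single C (ComplexShape.up ℤ) b).obj N ⟶ L :=
    HomologicalComplex.mkHomFromSingle p (fun j hj => by
      obtain rfl : b + 1 = j := hj
      rw [hd, comp_zero])
  let g : (singleFunctor C b).obj N ⟶ X :=
    ((singleFunctorIsoCompQ C b).app N).hom ≫ Q.map s ≫ e.inv ≫ i
  have hF : Epi ((homologyFunctorFactors C b).inv.app L) :=
    inferInstanceAs (Epi ((homologyFunctorFactors C b).app L).inv)
  have hπ : Epi π := by
    refine @epi_comp _ _ _ _ _ _ inferInstance _ ?_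
    refine @epi_comp _ _ _ _ _ _ inferInstance _ ?_
    refine @epi_comp _ _ _ _ _ _ hF _ ?_
    exact @epi_comp _ _ _ _ _ _ inferInstance _ hepi
  refine ⟨N, g, ?_, ?_, ?_⟩
  · let S := (HomologicalComplex.single C (ComplexShape.up ℤ) b).obj N
    have hdS : S.d b (b + 1) = 0 :=
      (HomologicalComplex.isZero_single_obj_X (ComplexShape.up ℤ) b N (b + 1) (by lia)).eq_of_tgt _ _
    have := S.isIso_iCycles b (b + 1) (by simp) hdS
    have : Epi (s.f b) := by
      rw [HomologicalComplex.mkHomFromSingle_f]; infer_instance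
    have hc : Epi (HomologicalComplex.cyclesMap s b) := by
      have e1 : HomologicalComplex.cyclesMap s b = (S.iCycles b ≫ s.f b) ≫ inv (L.iCycles b) := by
        rw [IsIso.eq_comp_inv, HomologicalComplex.cyclesMap_i]
      rw [e1]; infer_instance
    have hm : Epi (HomologicalComplex.homologyMap s b) := by
      have h1 : Epi (S.homologyπ b ≫ HomologicalComplex.homologyMap s b) := by
        rw [HomologicalComplex.homologyπ_naturality]; infer_instance
      exact epi_of_epi (S.homologyπ b) _
    have hQ : Epi ((homologyFunctor C b).map (Q.map s)) := by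
      have h := (homologyFunctorFactors C b).hom.naturality s
      rw [← Iso.app_hom (homologyFunctorFactors C b) L, ← Iso.eq_comp_inv] at h
      rw [show (homologyFunctor C b).map (Q.map s) = _ from h]
      have : Epi (((HomologicalComplex.homologyFunctor C (ComplexShape.up ℤ) b)).map s) := hm
      infer_instance
    simp only [g, Functor.map_comp]
    refine @epi_comp _ _ _ _ _ _ (inferInstanceAs (Epi ((homologyFunctor C b).mapIso
      ((singleFunctorIsoCompQ C b).app N)).hom)) _ ?_
    refine @epi_comp _ _ _ _ _ _ hQ _ ?_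
    exact @epi_comp _ _ _ _ _ _ inferInstance _ hepi
  · exact hR _ _ _ π hπ hzero
  · simp only [g, Category.assoc]
    rw [show i ≫ f = 0 from comp_distTriang_mor_zero₁₂ _ hT]
    simp

/-- There is a map from a negative object onto the top cohomology killed by `f`. -/
theorem exists_negative_map (hneg : ∀ X : C, ∃ (N : C) (p : N ⟶ X), Epi p ∧ ∀ f : X ⟶ N, f = 0)
    (X X' : DerivedCategory C) (f : X ⟶ X') (b : ℤ) (hX : X.IsLE b) (hX' : X'.IsLE (b - 1)) :
    ∃ (N : C) (g : (singleFunctor C b).obj N ⟶ X), Epi ((homologyFunctor C b).map g) ∧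
      (∀ φ : (homologyFunctor C b).obj X ⟶ N, φ = 0) ∧ g ≫ f = 0 :=
  exists_cover_map (fun L N => ∀ φ : L ⟶ N, φ = 0)
    (fun _ _ _ π _ h φ => (cancel_epi π).1 ((h _).trans comp_zero.symm)) hneg X X' f b hX hX'

end Groth.Agent.DC43
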